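import Mathlib
import Groth.Agent.RegLoc6.Basic

/-!
# Sections over dense opens extend to points of codimension at most one
-/

set_option autoImplicit false
set_option linter.style.haveILetI false
set_option backward.isDefEq.respectTransparency false
set_option backward.isDefEq.respectTransparency.types false

universe u

open CategoryTheory CategoryTheory.Limits AlgebraicGeometry TopologicalSpace

namespace Groth.Agent.CodimOneExt

theorem valuationRing_of_regular (R : Type u) [CommRing R] [IsRegularLocalRing R] (h : ringKrullDim R ≤ 1) :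
    ∃ _ : IsDomain R, ValuationRing R := by
  have hd : IsDomain R := RegLoc6.isDomain_of_isRegularLocalRing R
  refine ⟨hd, ?_⟩
  have hspan : (IsLocalRing.maximalIdeal R).spanFinrank ≤ 1 := by
    have h' : ((IsLocalRing.maximalIdeal R).spanFinrank : WithBot ℕ∞) ≤ 1 :=
      IsRegularLocalRing.spanFinrank_maximalIdeal (R := R) ▸ h
    exact_mod_cast h'
  have h6 : Module.finrank (IsLocalRing.ResidueField R) (IsLocalRing.CotangentSpace R) ≤ 1 := by
    rwa [← IsLocalRing.spanFinrank_maximalIdeal_eq_finrank_cotangentSpace]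
  exact ((tfae_of_isNoetherianRing_of_isLocalRing_of_isDomain R).out 5 1).mp h6

/-- A valuation ring contains the image of any local ring dominating it. -/
theorem exists_factor {R K B : Type*} [CommRing R] [IsDomain R] [ValuationRing R] [Field K] [Algebra R K]
    [IsFractionRing R K] [CommRing B] [IsLocalRing B] (φ : B →+* K) (ψ : R →+* B) [IsLocalHom ψ]
    (h : φ.comp ψ = algebraMap R K) :
    ∃ φ' : B →+* R, (algebraMap R K).comp φ' = φ := by
  have hinj := IsFractionRing.injective R K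
  have hmem : ∀ b, ∃ r, algebraMap R K r = φ b := fun b => by
    rcases ValuationRing.isInteger_or_isInteger R (φ b) with h1 | h1
    · exact h1
    · obtain ⟨r, hr⟩ := h1
      by_cases hb : φ b = 0
      · exact ⟨0, by rw [map_zero, hb]⟩
      by_cases hru : IsUnit r
      · obtain ⟨v, rfl⟩ := hru
        refine ⟨(v⁻¹ : Rˣ), ?_⟩
        rw [← inv_inj, ← hr, map_units_inv, inv_inv]
      · exfalso
        have h2 : φ (1 - ψ r * b) = 0 := by
          rw [map_sub, map_one, map_mul, show φ (ψ r) = algebraMap R K r from congr($h r), hr,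
            inv_mul_cancel₀ hb, sub_self]
        have h3 : ¬ IsUnit (ψ r * b) := fun hu => hru (isUnit_of_map_unit ψ r (isUnit_of_mul_isUnit_left hu))
        have h4 : IsUnit (1 - ψ r * b) := IsLocalRing.isUnit_one_sub_self_of_mem_nonunits _ h3
        exact (h4.map φ).ne_zero h2
  choose g hg using hmem
  refine ⟨{ toFun := g
            map_one' := hinj (by rw [hg, map_one, map_one])
            map_mul' := fun a b => hinj (by rw [hg, map_mul, map_mul, hg, hg])
            map_zero' := hinj (by rw [hg, map_zero, map_zero])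
            map_add' := fun a b => hinj (by rw [hg, map_add, map_add, hg, hg]) }, RingHom.ext hg⟩

/-- The lift to a point of dimension at most one on an integral base. -/
theorem exists_stalk_section {X Y : Scheme.{u}} [IsIntegral Y] (f : X ⟶ Y) (hcl : IsClosedMap f.base)
    (φ₀ : Spec Y.functionField ⟶ X) (h₀ : φ₀ ≫ f = Y.fromSpecStalk (genericPoint Y)) (y : Y)
    (hv : ValuationRing (Y.presheaf.stalk y)) :
    ∃ L : Spec (Y.presheaf.stalk y) ⟶ X, L ≫ f = Y.fromSpecStalk y ∧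
      Spec.map (Y.presheaf.stalkSpecializes (genericPoint_specializes y)) ≫ L = φ₀ := by
  let xη := φ₀ (IsLocalRing.closedPoint Y.functionField)
  have hfη : f xη = genericPoint Y := by
    show (φ₀ ≫ f) _ = _
    rw [h₀]
    exact Scheme.fromSpecStalk_closedPoint
  obtain ⟨x, hx, rfl⟩ : ∃ x, xη ⤳ x ∧ f x = y := by
    have h1 : y ∈ f.base '' closure {xη} :=
      ((genericPoint_specializes y).mem_closed (hcl _ isClosed_closure) ⟨xη, subset_closure rfl, hfη⟩)
    obtain ⟨x, hx, hxy⟩ := h1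
    exact ⟨x, specializes_iff_mem_closure.2 hx, hxy⟩
  let Φ : X.presheaf.stalk x ⟶ Y.functionField := X.presheaf.stalkSpecializes hx ≫ Scheme.stalkClosedPointTo φ₀
  let j := Y.presheaf.stalkSpecializes (genericPoint_specializes (f x))
  haveI : IsPreimmersion (Y.fromSpecStalk (f x)) := inferInstance
  have hΦ₀ : Spec.map Φ ≫ X.fromSpecStalk x = φ₀ := by
    simp only [Φ, Spec.map_comp, Category.assoc, Scheme.SpecMap_stalkSpecializes_fromSpecStalk]
    exact Scheme.Spec_stalkClosedPointTo_fromSpecStalk φ₀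
  have hcomp : f.stalkMap x ≫ Φ = j := by
    apply Spec.map_injective
    rw [← cancel_mono (Y.fromSpecStalk (f x)), Scheme.SpecMap_stalkSpecializes_fromSpecStalk, Spec.map_comp,
      Category.assoc, Scheme.SpecMap_stalkMap_fromSpecStalk, ← Category.assoc, hΦ₀, h₀]
  haveI := hv
  haveI : IsDomain (Y.presheaf.stalk (f x)) :=
    Function.Injective.isDomain _ (IsFractionRing.injective (Y.presheaf.stalk (f x)) Y.functionField)
  obtain ⟨φ', hφ'⟩ := exists_factor (R := Y.presheaf.stalk (f x)) (K := Y.functionField) (B := X.presheaf.stalk x)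
    Φ.hom (f.stalkMap x).hom (congrArg CommRingCat.Hom.hom hcomp)
  have hφj : CommRingCat.ofHom φ' ≫ j = Φ := CommRingCat.hom_ext hφ'
  haveI : Mono j := ConcreteCategory.mono_of_injective j (IsFractionRing.injective (Y.presheaf.stalk (f x)) Y.functionField)
  have hid : f.stalkMap x ≫ CommRingCat.ofHom φ' = 𝟙 _ := by
    rw [← cancel_mono j, Category.assoc, hφj, hcomp, Category.id_comp]
  refine ⟨Spec.map (CommRingCat.ofHom φ') ≫ X.fromSpecStalk x, ?_, ?_⟩
  · rw [Category.assoc, ← Scheme.SpecMap_stalkMap_fromSpecStalk, ← Spec.map_comp_assoc, hid, Spec.map_id,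
      Category.id_comp]
  · rw [← Spec.map_comp_assoc, hφj, hΦ₀]

/-- A point with domain as local ring of a reduced locally Noetherian scheme has an integral neighbourhood. -/
theorem exists_integral_nhd {Y : Scheme.{u}} [IsLocallyNoetherian Y] [IsReduced Y] (y : Y)
    [IsDomain (Y.presheaf.stalk y)] :
    ∃ W : Y.Opens, y ∈ W ∧ IsIntegral (W : Scheme.{u}) := by
  obtain ⟨_, ⟨A, hA, rfl⟩, hyA, -⟩ := Y.isBasis_affineOpens.exists_subset_of_mem_open (Set.mem_univ y) isOpen_univ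
  haveI := IsLocallyNoetherian.component_noetherian (X := Y) ⟨A, hA⟩
  haveI : NoetherianSpace (A : Set Y) := noetherianSpace_of_isAffineOpen A hA
  have hfin : (irreducibleComponents (A : Set Y)).Finite := NoetherianSpace.finite_irreducibleComponents
  let T := (A : Set Y)
  let yA : T := ⟨y, hyA⟩
  have huniq : ∀ Z ∈ irreducibleComponents T, yA ∈ Z →
      ∀ Z' ∈ irreducibleComponents T, yA ∈ Z' → Z = Z' := by
    intro Z hZ hy Z' hZ' hy'
    let ξ := Y.fromSpecStalk y (genericPoint (Spec (Y.presheaf.stalk y)))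
    have hξy : ξ ⤳ y := by
      have : ξ ∈ Set.range (Y.fromSpecStalk y) := ⟨_, rfl⟩
      rwa [Scheme.range_fromSpecStalk] at this
    have hξA : ξ ∈ A := hξy.mem_open A.2 hyA
    have key : ∀ Z ∈ irreducibleComponents T, yA ∈ Z → Z = closure {(⟨ξ, hξA⟩ : T)} := by
      intro Z hZ hy
      have hirr : IsIrreducible (Subtype.val '' Z) := hZ.1.image _ continuous_subtype_val.continuousOn
      obtain ⟨z, hz⟩ := QuasiSober.sober hirr.closure isClosed_closure
      obtain ⟨z', hz'⟩ : z ∈ Set.range (Y.fromSpecStalk y) := by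
        rw [Scheme.range_fromSpecStalk]
        exact hz.specializes (subset_closure ⟨yA, hy, rfl⟩)
      have hsub : Z ⊆ closure {(⟨ξ, hξA⟩ : T)} := fun w hw => by
        rw [← specializes_iff_mem_closure, Topology.IsInducing.subtypeVal.specializes_iff.symm]
        refine Specializes.trans ?_ (hz.specializes (subset_closure ⟨w, hw, rfl⟩))
        rw [← hz']
        exact (genericPoint_specializes z').map (Y.fromSpecStalk y).continuous
      exact hsub.antisymm (hZ.2 isIrreducible_singleton.closure hsub)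
    rw [key Z hZ hy, key Z' hZ' hy']
  obtain ⟨Z, hZ, hyZ⟩ : ∃ Z ∈ irreducibleComponents T, yA ∈ Z :=
    ⟨irreducibleComponent yA, irreducibleComponent_mem_irreducibleComponents yA, mem_irreducibleComponent⟩
  have hcl : IsClosed (⋃ Z' ∈ irreducibleComponents T \ {Z}, Z') :=
    (hfin.subset Set.diff_subset).isClosed_biUnion fun Z' hZ' => isClosed_of_mem_irreducibleComponents Z' hZ'.1
  let W : Y.Opens := ⟨Subtype.val '' (⋃ Z' ∈ irreducibleComponents T \ {Z}, Z')ᶜ,
    A.2.isOpenMap_subtype_val _ hcl.isOpen_compl⟩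
  have hyW : y ∈ W := by
    refine ⟨yA, fun h => ?_, rfl⟩
    obtain ⟨Z', hZ', hy'⟩ := Set.mem_iUnion₂.1 h
    exact hZ'.2 (huniq Z' hZ'.1 hy' Z hZ hyZ)
  have hWZ : (⋃ Z' ∈ irreducibleComponents T \ {Z}, Z')ᶜ ⊆ Z := by
    intro w hw
    by_contra hwZ
    refine hw (Set.mem_iUnion₂.2 ⟨irreducibleComponent w,
      ⟨irreducibleComponent_mem_irreducibleComponents w, fun e => hwZ ?_⟩, mem_irreducibleComponent⟩)
    exact (Set.mem_singleton_iff.1 e) ▸ mem_irreducibleComponent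
  have hirr : IsIrreducible (W : Set Y) := by
    refine IsIrreducible.image ?_ _ continuous_subtype_val.continuousOn
    refine ⟨⟨yA, ?_⟩, hZ.1.2.open_subset hcl.isOpen_compl hWZ⟩
    obtain ⟨w, hw, e⟩ := hyW
    exact (Subtype.ext e : w = yA) ▸ hw
  refine ⟨W, hyW, ?_⟩
  haveI : IsReduced W.toScheme := isReduced_of_isOpenImmersion W.ι
  haveI : IrreducibleSpace W.toScheme := Subtype.irreducibleSpace hirr
  exact isIntegral_of_irreducibleSpace_of_isReduced _

theorem isDominant_homOfLE {Y : Scheme.{u}} {V : Y.Opens} (hV : Dense (V : Set Y)) {U P : Y.Opens}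
    (hPU : P ≤ U) (h : U ⊓ V ≤ P) : IsDominant (Y.homOfLE hPU) := by
  refine ⟨fun x => ?_⟩
  rw [mem_closure_iff]
  intro o ho hxo
  have ho' : IsOpen (Subtype.val '' o : Set Y) := U.2.isOpenMap_subtype_val _ ho
  obtain ⟨_, ⟨z, hz, rfl⟩, hzV⟩ := hV.inter_open_nonempty _ ho' ⟨x.1, x, hxo, rfl⟩
  refine ⟨z, hz, ⟨z.1, h ⟨z.2, hzV⟩⟩, ?_⟩
  apply U.ι.isOpenEmbedding.injective
  rw [← Scheme.Hom.comp_apply, Scheme.homOfLE_ι]
  rfl

/-- One point at a time. -/
theorem exists_nhd {X Y : Scheme.{u}} [IsLocallyNoetherian Y] [IsReduced Y] (f : X ⟶ Y) [IsSeparated f]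
    [LocallyOfFiniteType f] (hcl : IsClosedMap f.base) (V : Y.Opens) (hV : Dense (V : Set Y))
    (s : (V : Scheme.{u}) ⟶ X) (hs : s ≫ f = V.ι) (y : Y) [IsDomain (Y.presheaf.stalk y)]
    [ValuationRing (Y.presheaf.stalk y)] :
    ∃ (U : Y.Opens) (t : (U : Scheme.{u}) ⟶ X), y ∈ U ∧ t ≫ f = U.ι ∧
      Y.homOfLE (inf_le_left : U ⊓ V ≤ U) ≫ t = Y.homOfLE (inf_le_right : U ⊓ V ≤ V) ≫ s := by
  obtain ⟨W, hyW, hW⟩ := exists_integral_nhd y
  obtain ⟨ξ, hξW, hξV⟩ := hV.inter_open_nonempty (W : Set Y) W.2 ⟨y, hyW⟩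
  let Y' := (W : Scheme.{u})
  let ξ' : ↥Y' := ⟨ξ, hξW⟩
  let y' : ↥Y' := ⟨y, hyW⟩
  let f' := f ∣_ W
  have hcl' : IsClosedMap f'.base := by
    rw [show ⇑f'.base = _ from morphismRestrict_base f W]
    exact hcl.restrictPreimage W.1
  let V' : Y'.Opens := W.ι ⁻¹ᵁ V
  have hη : genericPoint Y' ∈ V' :=
    (genericPoint_specializes ξ').mem_open V'.2 hξV
  have hηV : W.ι (genericPoint Y') ∈ V := hη
  have hηW : W.ι (genericPoint Y') ∈ W := (genericPoint Y').2
  let c : Spec Y'.functionField ⟶ V.toScheme :=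
    V'.fromSpecStalkOfMem (genericPoint Y') hη ≫ (W.ι ∣_ V)
  have hc : c ≫ s ≫ f = Y'.fromSpecStalk (genericPoint Y') ≫ W.ι := by
    rw [hs, Category.assoc, morphismRestrict_ι, Scheme.Opens.fromSpecStalkOfMem_ι_assoc]
  let φ₀ : Spec Y'.functionField ⟶ (f ⁻¹ᵁ W).toScheme := IsOpenImmersion.lift (f ⁻¹ᵁ W).ι (c ≫ s) (by
    rintro _ ⟨q, rfl⟩
    rw [Scheme.Opens.range_ι]
    show ((c ≫ s) ≫ f) q ∈ W
    rw [Category.assoc, hc]
    exact (Y'.fromSpecStalk (genericPoint Y') q).2)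
  have hφ₀ι : φ₀ ≫ (f ⁻¹ᵁ W).ι = c ≫ s := IsOpenImmersion.lift_fac _ _ _
  have h₀ : φ₀ ≫ f' = Y'.fromSpecStalk (genericPoint Y') := by
    rw [← cancel_mono W.ι, Category.assoc, morphismRestrict_ι, reassoc_of% hφ₀ι, hc]
  let e := W.stalkIso ⟨y, hyW⟩
  haveI : IsDomain (Y'.presheaf.stalk ⟨y, hyW⟩) := e.commRingCatIsoToRingEquiv.injective.isDomain _
  haveI hv : ValuationRing (Y'.presheaf.stalk ⟨y, hyW⟩) :=
    Function.Surjective.valuationRing e.commRingCatIsoToRingEquiv.symm.toRingHom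
      e.commRingCatIsoToRingEquiv.symm.surjective
  obtain ⟨L, hL, hL₀⟩ := exists_stalk_section f' hcl' φ₀ h₀ ⟨y, hyW⟩ hv
  obtain ⟨U', hyU', t', ht', ht'f⟩ := spread_out_of_isGermInjective' (𝟙 Y') f' L (by rw [Category.comp_id]; exact hL)
  rw [Category.comp_id] at ht'f
  let U : Y.Opens := W.ι ''ᵁ U'
  let eU : U'.toScheme ≅ U.toScheme := W.ι.isoImage U'
  have heU : eU.hom ≫ U.ι = U'.ι ≫ W.ι := Scheme.Hom.isoImage_hom_ι W.ι U'
  have heU' : eU.inv ≫ U'.ι ≫ W.ι = U.ι := by rw [← heU, Iso.inv_hom_id_assoc]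
  let t : U.toScheme ⟶ X := eU.inv ≫ t' ≫ (f ⁻¹ᵁ W).ι
  have htf : t ≫ f = U.ι := by
    simp only [t, Category.assoc]
    rw [← morphismRestrict_ι, reassoc_of% ht'f, heU']
  refine ⟨U, t, ⟨⟨y, hyW⟩, hyU', rfl⟩, htf, ?_⟩
  haveI : Nonempty (U'.toScheme) := ⟨⟨⟨y, hyW⟩, hyU'⟩⟩
  haveI : IsReduced (U ⊓ V).toScheme := isReduced_of_isOpenImmersion (U ⊓ V).ι
  have hηU' : genericPoint Y' ∈ U' := (genericPoint_specializes y').mem_open U'.2 hyU'
  let d : Spec Y'.functionField ⟶ (U ⊓ V).toScheme := IsOpenImmersion.lift (U ⊓ V).ι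
    (Y'.fromSpecStalk (genericPoint Y') ≫ W.ι) (by
      rintro _ ⟨q, rfl⟩
      rw [Scheme.Opens.range_ι]
      have hq : genericPoint Y' ⤳ Y'.fromSpecStalk (genericPoint Y') q :=
        genericPoint_specializes _
      have hq' : Y'.fromSpecStalk (genericPoint Y') q ⤳ genericPoint Y' := by
        have : Y'.fromSpecStalk (genericPoint Y') q ∈ Set.range (Y'.fromSpecStalk (genericPoint Y')) := ⟨q, rfl⟩
        rwa [Scheme.range_fromSpecStalk] at this
      exact ⟨⟨Y'.fromSpecStalk (genericPoint Y') q, hq'.mem_open U'.2 hηU', rfl⟩, hq'.mem_open V'.2 hη⟩)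
  have hdι : d ≫ (U ⊓ V).ι = Y'.fromSpecStalk (genericPoint Y') ≫ W.ι := IsOpenImmersion.lift_fac _ _ _
  haveI : IsDominant d := by
    refine ⟨fun x => ?_⟩
    refine closure_mono (s := {d (IsLocalRing.closedPoint Y'.functionField)}) (Set.singleton_subset_iff.2 (Set.mem_range_self _)) ?_
    rw [← specializes_iff_mem_closure, ← (U ⊓ V).ι.isOpenEmbedding.isInducing.specializes_iff,
      ← Scheme.Hom.comp_apply, hdι, Scheme.Hom.comp_apply, Scheme.fromSpecStalk_closedPoint]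
    obtain ⟨z, hz, hzx⟩ := x.2.1
    show W.ι _ ⤳ x.1
    rw [← hzx]
    exact (genericPoint_specializes z).map W.ι.continuous
  refine ext_of_isDominant_of_isSeparated f ?_ d ?_
  · exact (Category.assoc _ _ _).trans ((congrArg _ htf).trans ((Scheme.homOfLE_ι _ _).trans
      ((Scheme.homOfLE_ι _ _).symm.trans ((congrArg _ hs.symm).trans (Category.assoc _ _ _).symm))))
  · have h1 : d ≫ Y.homOfLE (inf_le_right : U ⊓ V ≤ V) = c := by
      rw [← cancel_mono V.ι, Category.assoc, Scheme.homOfLE_ι, hdι, Category.assoc, morphismRestrict_ι,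
        Scheme.Opens.fromSpecStalkOfMem_ι_assoc]
    have h2 : d ≫ Y.homOfLE (inf_le_left : U ⊓ V ≤ U) = U'.fromSpecStalkOfMem (genericPoint Y') hηU' ≫ eU.hom := by
      rw [← cancel_mono U.ι, Category.assoc, Category.assoc, Scheme.homOfLE_ι, hdι, heU,
        Scheme.Opens.fromSpecStalkOfMem_ι_assoc]
    have h3 : Spec.map (Y'.presheaf.stalkSpecializes (genericPoint_specializes y')) ≫
        U'.fromSpecStalkOfMem y' hyU' = U'.fromSpecStalkOfMem (genericPoint Y') hηU' := by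
      rw [← cancel_mono U'.ι, Category.assoc, Scheme.Opens.fromSpecStalkOfMem_ι,
        Scheme.Opens.fromSpecStalkOfMem_ι, Scheme.SpecMap_stalkSpecializes_fromSpecStalk]
    rw [reassoc_of% h2, reassoc_of% h1, ← hφ₀ι, ← hL₀, ht']
    simp only [t, Category.assoc, Iso.hom_inv_id_assoc]
    rw [← reassoc_of% h3]

/-- Sections over a dense open extend to all points of dimension at most one. -/
theorem exists_extension {X Y : Scheme.{u}} [IsLocallyNoetherian Y] [IsReduced Y]
    (hreg : ∀ y : Y, ringKrullDim (Y.presheaf.stalk y) ≤ 1 → IsRegularLocalRing (Y.presheaf.stalk y))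
    (f : X ⟶ Y) [IsSeparated f] [LocallyOfFiniteType f] (hcl : IsClosedMap f.base)
    (V : Y.Opens) (hV : Dense (V : Set Y)) (s : (V : Scheme.{u}) ⟶ X) (hs : s ≫ f = V.ι) :
    ∃ (U : Y.Opens) (hVU : V ≤ U) (s' : (U : Scheme.{u}) ⟶ X), s' ≫ f = U.ι ∧ Y.homOfLE hVU ≫ s' = s ∧
      ∀ y : Y, ringKrullDim (Y.presheaf.stalk y) ≤ 1 → y ∈ U := by
  have key : ∀ y : {y : Y // ringKrullDim (Y.presheaf.stalk y) ≤ 1},
      ∃ (U : Y.Opens) (t : (U : Scheme.{u}) ⟶ X), y.1 ∈ U ∧ t ≫ f = U.ι ∧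
      Y.homOfLE (inf_le_left : U ⊓ V ≤ U) ≫ t = Y.homOfLE (inf_le_right : U ⊓ V ≤ V) ≫ s := fun y => by
    haveI := hreg y.1 y.2
    obtain ⟨_, _⟩ := valuationRing_of_regular (Y.presheaf.stalk y.1) y.2
    exact exists_nhd f hcl V hV s hs y.1
  choose P t hy ht hts using key
  let Us : Option {y : Y // ringKrullDim (Y.presheaf.stalk y) ≤ 1} → Y.Opens := fun o => o.elim V P
  let ss : ∀ o, (Us o).toScheme ⟶ X := fun o => match o with
    | none => s
    | some y => t y
  have hssf : ∀ o, ss o ≫ f = (Us o).ι := fun o => match o with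
    | none => hs
    | some y => ht y
  have hssV : ∀ o, Y.homOfLE (inf_le_left : Us o ⊓ V ≤ Us o) ≫ ss o =
      Y.homOfLE (inf_le_right : Us o ⊓ V ≤ V) ≫ s := fun o => match o with
    | none => rfl
    | some y => hts y
  let 𝒰 := Scheme.Opens.iSupOpenCover Us
  have hι : ∀ o, 𝒰.f o ≫ (⨆ i, Us i).ι = (Us o).ι := fun o => Scheme.homOfLE_ι Y (le_iSup Us o)
  have hcompat : ∀ a b, pullback.fst (𝒰.f a) (𝒰.f b) ≫ ss a = pullback.snd _ _ ≫ ss b := by
    intro a b
    let Q : Y.Opens := Us a ⊓ Us b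
    have hQab : Y.homOfLE (inf_le_left : Q ≤ Us a) ≫ ss a = Y.homOfLE (inf_le_right : Q ≤ Us b) ≫ ss b := by
      haveI : IsReduced Q.toScheme := isReduced_of_isOpenImmersion Q.ι
      haveI : IsDominant (Y.homOfLE (inf_le_left : Q ⊓ V ≤ Q)) := isDominant_homOfLE hV _ le_rfl
      refine ext_of_isDominant_of_isSeparated f ?_ (Y.homOfLE (inf_le_left : Q ⊓ V ≤ Q)) ?_
      · rw [Category.assoc, Category.assoc, hssf, hssf, Scheme.homOfLE_ι, Scheme.homOfLE_ι]
      · have ea : Y.homOfLE (inf_le_left : Q ⊓ V ≤ Q) ≫ Y.homOfLE (inf_le_left : Q ≤ Us a) =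
            Y.homOfLE (inf_le_inf_right V inf_le_left : Q ⊓ V ≤ Us a ⊓ V) ≫ Y.homOfLE inf_le_left := by
          rw [Scheme.homOfLE_homOfLE, Scheme.homOfLE_homOfLE]
        have eb : Y.homOfLE (inf_le_left : Q ⊓ V ≤ Q) ≫ Y.homOfLE (inf_le_right : Q ≤ Us b) =
            Y.homOfLE (inf_le_inf_right V inf_le_right : Q ⊓ V ≤ Us b ⊓ V) ≫ Y.homOfLE inf_le_left := by
          rw [Scheme.homOfLE_homOfLE, Scheme.homOfLE_homOfLE]
        rw [reassoc_of% ea, reassoc_of% eb, hssV, hssV, Scheme.homOfLE_homOfLE_assoc, Scheme.homOfLE_homOfLE_assoc]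
    let p₁ := pullback.fst (𝒰.f a) (𝒰.f b) ≫ (Us a).ι
    have hp : p₁ = pullback.snd (𝒰.f a) (𝒰.f b) ≫ (Us b).ι := by
      rw [← hι b, ← pullback.condition_assoc, hι a]
    let q : pullback (𝒰.f a) (𝒰.f b) ⟶ Q.toScheme := IsOpenImmersion.lift Q.ι p₁ (by
      rintro _ ⟨z, rfl⟩
      rw [Scheme.Opens.range_ι]
      refine ⟨(pullback.fst (𝒰.f a) (𝒰.f b) z).2, ?_⟩
      rw [show p₁ z = (pullback.snd (𝒰.f a) (𝒰.f b) ≫ (Us b).ι) z from congr($hp z)]
      exact (pullback.snd (𝒰.f a) (𝒰.f b) z).2)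
    have hqa : q ≫ Y.homOfLE (inf_le_left : Q ≤ Us a) = pullback.fst (𝒰.f a) (𝒰.f b) := by
      rw [← cancel_mono (Us a).ι, Category.assoc, Scheme.homOfLE_ι, IsOpenImmersion.lift_fac]
    have hqb : q ≫ Y.homOfLE (inf_le_right : Q ≤ Us b) = pullback.snd (𝒰.f a) (𝒰.f b) := by
      rw [← cancel_mono (Us b).ι, Category.assoc, Scheme.homOfLE_ι, IsOpenImmersion.lift_fac, hp]
    rw [← hqa, ← hqb, Category.assoc, Category.assoc, hQab]
  refine ⟨⨆ o, Us o, le_iSup Us none, 𝒰.glueMorphisms ss hcompat, ?_, ?_, fun y hy' => ?_⟩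
  · refine 𝒰.hom_ext _ _ fun o => ?_
    rw [← Category.assoc, Scheme.Cover.ι_glueMorphisms, hι]
    exact hssf o
  · exact Scheme.Cover.ι_glueMorphisms 𝒰 ss hcompat none
  · exact le_iSup Us (some ⟨y, hy'⟩) (hy ⟨y, hy'⟩)

end Groth.Agent.CodimOneExt
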